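import Cfsg.Agent.SRing54.Basic

/-!
Schur's theorem: cyclic groups of composite order are B-groups.
-/

set_option autoImplicit false

namespace CfsgLib.SRing54

open Equiv
open scoped Pointwise

section Cyclic

variable {A : Type*} [AddCommGroup A] [Fintype A] [DecidableEq A] [IsAddCyclic A]
  {Γ : Subgroup (Perm A)} (hT : HasTrans Γ) (hP : Prim Γ)

include hT hP in
theorem coset_rel {p : ℕ} (hp : p.Prime) (hpn : p ∣ Fintype.card A) {x : A} (hx : p • x ≠ 0) {h : A}
    (hh : p • h = 0) : Rel Γ x (x + h) := by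
  classical
  haveI := Fact.mk hp
  set O : Set A := {y | Rel Γ x y} with hO
  have hr := roots_inv hT p (inv_rel_indicator (Γ := Γ) x)
  set φ : A → ZMod p := fun z => ((Finset.univ.filter fun y => y ∈ O ∧ p • y = z).card : ZMod p)
    with hφ
  have hS : InvSet Γ {z | φ z ≠ 0} := fun k hk h0 z hz => by
    simp only [Set.mem_ofPred_eq] at hz ⊢
    rwa [show φ (k z) = φ z from hr k hk h0 z]
  have hcl := hP _ (closure_invSet hT hS)
  have hsub : AddSubgroup.closure {z | φ z ≠ 0} ≤ (nsmulAddMonoidHom (α := A) p).range := by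
    rw [AddSubgroup.closure_le]
    intro z hz
    simp only [Set.mem_ofPred_eq, hφ] at hz
    obtain ⟨y, hy⟩ := Finset.card_pos.mp (Nat.pos_of_ne_zero fun h0 => hz (by rw [h0, Nat.cast_zero]))
    simp only [Finset.mem_filter] at hy
    exact ⟨y, hy.2.2⟩
  obtain ⟨w, hw⟩ := exists_prime_addOrderOf_dvd_card (G := A) p hpn
  have hne : AddSubgroup.closure {z | φ z ≠ 0} ≠ ⊤ := by
    intro h0
    rw [h0, top_le_iff, AddMonoidHom.range_eq_top] at hsub
    have hinj := (Finite.injective_iff_surjective).mpr hsub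
    have hw0 : w = 0 := hinj (show p • w = p • 0 by rw [← hw, addOrderOf_nsmul_eq_zero, smul_zero])
    rw [hw0, addOrderOf_zero] at hw
    exact hp.ne_one hw.symm
  have hbot := hcl.resolve_right hne
  have hx0 : φ (p • x) = 0 := by
    by_contra h0
    exact hx (AddSubgroup.mem_bot.mp (hbot ▸ AddSubgroup.subset_closure h0))
  simp only [hφ, ZMod.natCast_eq_zero_iff] at hx0
  set F := Finset.univ.filter fun y => y ∈ O ∧ p • y = p • x with hF
  set F' := Finset.univ.filter fun y : A => p • y = p • x with hF'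
  have hle : F'.card ≤ p := by
    refine le_trans ?_ (IsAddCyclic.card_nsmul_eq_zero_le (α := A) hp.pos)
    refine Finset.card_le_card_of_injOn (fun y => y - x) (fun y hy => ?_)
      (fun a _ b _ hab => sub_left_injective hab)
    simp [hF'] at hy
    simp [smul_sub, hy]
  have hxF : x ∈ F := by
    rw [hF, Finset.mem_filter]
    exact ⟨Finset.mem_univ _, Rel.refl x, rfl⟩
  have hge : p ≤ F.card := Nat.le_of_dvd (Finset.card_pos.mpr ⟨x, hxF⟩) hx0
  have hss : F ⊆ F' := fun y hy => by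
    simp only [hF, hF', Finset.mem_filter] at hy ⊢
    exact ⟨hy.1, hy.2.2⟩
  have heq := Finset.eq_of_subset_of_card_le hss (hle.trans hge)
  have : x + h ∈ F := by
    rw [heq, hF', Finset.mem_filter]
    exact ⟨Finset.mem_univ _, by rw [smul_add, hh, add_zero]⟩
  simp only [hF, Finset.mem_filter] at this
  exact this.2.1

include hT hP in
theorem exists_rel_torsion {p : ℕ} (hp : p.Prime) (hpn : p ∣ Fintype.card A) {x : A} (hx : x ≠ 0) :
    ∃ y, y ≠ 0 ∧ p • y = 0 ∧ Rel Γ x y := by
  haveI := Fact.mk hp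
  by_contra hcon
  have hne : ∀ y, Rel Γ x y → p • y ≠ 0 := fun y hy h0 => hcon
    ⟨y, fun h => hx (by rw [h] at hy; exact hy.eq_zero), h0, hy⟩
  let H : AddSubgroup A :=
    { carrier := {h | ∀ y, Rel Γ x y → Rel Γ x (y - h)}
      zero_mem' := fun y hy => by rwa [sub_zero]
      add_mem' := fun {a b} ha hb y hy => by
        rw [← sub_sub]
        exact hb _ (ha _ hy)
      neg_mem' := fun {a} ha y hy => by
        have hs : Set.SurjOn (fun z => z - a) {z | Rel Γ x z} {z | Rel Γ x z} :=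
          ((Set.toFinite _).injOn_iff_bijOn_of_mapsTo (f := fun z : A => z - a) ha).mp
            (fun u _ v _ huv => sub_left_injective huv) |>.surjOn
        obtain ⟨z, hz, hzy⟩ := hs hy
        rwa [sub_neg_eq_add, ← show z - a = y from hzy, sub_add_cancel] }
  have hH : InvSet Γ (H : Set A) := by
    intro k hk h0 h hh y hy
    obtain ⟨w, rfl⟩ := k.surjective y
    have hw : Rel Γ x w := hy.trans (Rel.symm ⟨k, hk, h0, rfl⟩)
    obtain ⟨j, hj, hj0, hjx⟩ := exists_shift hT hk h
    have h1 := hjx (w - h)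
    rw [sub_add_cancel] at h1
    rw [← h1]
    exact (hh w hw).trans ⟨j, hj, hj0, rfl⟩
  obtain ⟨w, hw⟩ := exists_prime_addOrderOf_dvd_card (G := A) p hpn
  have hwH : w ∈ H := fun y hy => by
    have hpw : p • w = 0 := by rw [← hw, addOrderOf_nsmul_eq_zero]
    have := hy.trans (coset_rel hT hP hp hpn (hne y hy) (h := -w) (by rw [smul_neg, hpw, neg_zero]))
    rwa [← sub_eq_add_neg] at this
  have hHtop : H = ⊤ := (hP H hH).resolve_left fun hb => by
    rw [hb, AddSubgroup.mem_bot] at hwH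
    rw [hwH, addOrderOf_zero] at hw
    exact hp.ne_one hw.symm
  have : x ∈ H := hHtop ▸ AddSubgroup.mem_top x
  have h0 := this x (Rel.refl x)
  rw [sub_self] at h0
  exact hx h0.eq_zero

include hT hP in
theorem rel_of_two_primes {p q : ℕ} (hp : p.Prime) (hq : q.Prime) (hpq : p ≠ q)
    (hpn : p ∣ Fintype.card A) (hqn : q ∣ Fintype.card A) {x y : A} (hx : x ≠ 0) (hy : y ≠ 0) :
    Rel Γ x y := by
  haveI := Fact.mk hq
  obtain ⟨t, ht⟩ := exists_prime_addOrderOf_dvd_card (G := A) q hqn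
  have hqt : q • t = 0 := by rw [← ht, addOrderOf_nsmul_eq_zero]
  have hpt : p • t ≠ 0 := fun h => hpq
    ((Nat.prime_dvd_prime_iff_eq hq hp).mp (ht ▸ addOrderOf_dvd_of_nsmul_eq_zero h)).symm
  have key : ∀ {z : A}, z ≠ 0 → Rel Γ z t := by
    intro z hz
    obtain ⟨s, hs0, hps, hzs⟩ := exists_rel_torsion hT hP hp hpn hz
    have hos : addOrderOf s = p :=
      ((Nat.dvd_prime hp).mp (addOrderOf_dvd_of_nsmul_eq_zero hps)).resolve_left
        fun h => hs0 (AddMonoid.addOrderOf_eq_one_iff.mp h)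
    have hqs : q • s ≠ 0 := fun h => hpq
      ((Nat.prime_dvd_prime_iff_eq hp hq).mp (hos ▸ addOrderOf_dvd_of_nsmul_eq_zero h))
    have h2 : Rel Γ t (t + s) := coset_rel hT hP hp hpn hpt hps
    rw [add_comm] at h2
    exact (hzs.trans (coset_rel hT hP hq hqn hqs hqt)).trans h2.symm
  exact (key hx).trans (key hy).symm

end Cyclic

section PrimePower

theorem castHom_eq_zero_iff {p m : ℕ} (hp : p.Prime) (x : ZMod (p ^ (m + 1))) :
    ZMod.castHom (dvd_pow_self p m.succ_ne_zero) (ZMod p) x = 0 ↔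
      ((p ^ m : ℕ) : ZMod (p ^ (m + 1))) * x = 0 := by
  haveI : NeZero (p ^ (m + 1)) := ⟨pow_ne_zero _ hp.ne_zero⟩
  obtain ⟨a, rfl⟩ := ZMod.natCast_zmod_surjective x
  rw [map_natCast, ← Nat.cast_mul, ZMod.natCast_eq_zero_iff, ZMod.natCast_eq_zero_iff,
    pow_succ, Nat.mul_dvd_mul_iff_left (pow_pos hp.pos m)]

theorem isUnit_iff_castHom_ne_zero {p m : ℕ} (hp : p.Prime) (x : ZMod (p ^ (m + 1))) :
    IsUnit x ↔ ZMod.castHom (dvd_pow_self p m.succ_ne_zero) (ZMod p) x ≠ 0 := by
  haveI : NeZero (p ^ (m + 1)) := ⟨pow_ne_zero _ hp.ne_zero⟩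
  obtain ⟨a, rfl⟩ := ZMod.natCast_zmod_surjective x
  rw [map_natCast, ZMod.isUnit_iff_coprime, Ne, ZMod.natCast_eq_zero_iff,
    Nat.coprime_pow_right_iff m.succ_pos, Nat.coprime_comm, hp.coprime_iff_not_dvd]

theorem rel_of_prime_pow {p m : ℕ} (hp : p.Prime) (hm : 1 ≤ m)
    {Γ : Subgroup (Perm (ZMod (p ^ (m + 1))))} (hT : HasTrans Γ) (hP : Prim Γ)
    {x y : ZMod (p ^ (m + 1))} (hx : x ≠ 0) (hy : y ≠ 0) : Rel Γ x y := by
  classical
  haveI : NeZero (p ^ (m + 1)) := ⟨pow_ne_zero _ hp.ne_zero⟩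
  haveI : Fact p.Prime := ⟨hp⟩
  haveI : Fact (1 < p ^ (m + 1)) := ⟨Nat.one_lt_pow m.succ_ne_zero hp.one_lt⟩
  set r := ZMod.castHom (dvd_pow_self p m.succ_ne_zero) (ZMod p) with hr
  set π : ZMod (p ^ (m + 1)) := ((p ^ m : ℕ) : ZMod (p ^ (m + 1))) with hπdef
  have hπ : ∀ z, r z = 0 ↔ π * z = 0 := castHom_eq_zero_iff hp
  have hunit : ∀ z, IsUnit z ↔ r z ≠ 0 := isUnit_iff_castHom_ne_zero hp
  have hπ2 : ∀ z w, r z = r w → π * z = π * w := fun z w h => by
    rw [← sub_eq_zero, ← mul_sub, ← hπ, map_sub, h, sub_self]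
  have hrπ : r π = 0 := by
    rw [hr, hπdef, map_natCast, ZMod.natCast_eq_zero_iff]
    exact dvd_pow_self p (by omega)
  have hpπ : p • π = 0 := by
    rw [hπdef, nsmul_eq_mul, ← Nat.cast_mul, ← pow_succ', ZMod.natCast_self]
  have htor : ∀ z, p • z = 0 → ∃ w, z = π * w := fun z hz => by
    obtain ⟨a, rfl⟩ := ZMod.natCast_zmod_surjective z
    rw [nsmul_eq_mul, ← Nat.cast_mul, ZMod.natCast_eq_zero_iff, pow_succ',
      Nat.mul_dvd_mul_iff_left hp.pos] at hz
    obtain ⟨b, rfl⟩ := hz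
    exact ⟨(b : ZMod (p ^ (m + 1))), by rw [hπdef, ← Nat.cast_mul]⟩
  -- multiplier
  have hmul : ∀ {u v w}, IsUnit u → Rel Γ v w → Rel Γ (u * v) (u * w) := by
    rintro _ v w ⟨u, rfl⟩ h
    have := rel_nsmul hT (m := (u : ZMod (p ^ (m + 1))).val)
      (by rw [Nat.card_zmod]; exact (ZMod.val_coe_unit_coprime u).symm) h
    simpa [nsmul_eq_mul, ZMod.natCast_zmod_val] using this
  have hcard : Fintype.card (ZMod (p ^ (m + 1))) = p ^ (m + 1) := ZMod.card _
  have hpn : p ∣ Fintype.card (ZMod (p ^ (m + 1))) := by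
    rw [hcard]
    exact dvd_pow_self p m.succ_ne_zero
  obtain ⟨s, hs0, hps, h1s⟩ := exists_rel_torsion hT hP hp hpn (one_ne_zero (α := ZMod (p ^ (m + 1))))
  obtain ⟨a, rfl⟩ := htor s hps
  have hra : r a ≠ 0 := fun h => hs0 ((hπ a).mp h)
  let L : ZMod p → ZMod (p ^ (m + 1)) := fun d => (d.val : ZMod (p ^ (m + 1)))
  have hrL : ∀ d, r (L d) = d := fun d => by
    rw [map_natCast, ZMod.natCast_zmod_val]
  let sd : ZMod p → ZMod (p ^ (m + 1)) := fun d => π * a * L d
  have hsd : ∀ z, π * a * z = sd (r z) := fun z => by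
    show π * a * z = π * a * L (r z)
    rw [mul_assoc, mul_assoc]
    exact hπ2 _ _ (by rw [map_mul, map_mul, hrL])
  have hsd_inj : Function.Injective sd := fun d e h => by
    have h2 : π * (a * (L d - L e)) = 0 := by rw [← mul_assoc, mul_sub, sub_eq_zero]; exact h
    rw [← hπ, map_mul, mul_eq_zero, map_sub, hrL, hrL, sub_eq_zero] at h2
    exact h2.resolve_left hra
  have hsd_sub : ∀ d e, sd d - sd e = sd (d - e) := fun d e => by
    rw [show sd d - sd e = π * a * (L d - L e) from (mul_sub _ _ _).symm, hsd, map_sub, hrL, hrL]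
  have hsd0 : sd 0 = 0 := by simp [sd, L]
  have hsd1 : sd 1 = π * a := by rw [show sd 1 = sd (r 1) by rw [map_one], ← hsd, mul_one]
  have htor' : ∀ {z}, p • z = 0 → ∃ d, z = sd d := fun {z} hz => by
    obtain ⟨w, rfl⟩ := htor z hz
    refine ⟨(r a)⁻¹ * r w, hπ2 _ _ ?_ |>.trans (mul_assoc _ _ _).symm⟩
    rw [map_mul, hrL, ← mul_assoc, mul_inv_cancel₀ hra, one_mul]
  set T := Finset.univ.filter fun z => Rel Γ 1 z with hTdef
  have hmemT : ∀ {z}, z ∈ T ↔ Rel Γ 1 z := fun {z} => by simp [hTdef]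
  set D := Finset.univ.filter fun d => Rel Γ 1 (sd d) with hDdef
  have hmemD : ∀ {d}, d ∈ D ↔ Rel Γ 1 (sd d) := fun {d} => by simp [hDdef]
  have h0D : (0 : ZMod p) ∉ D := fun h => one_ne_zero (hsd0 ▸ hmemD.mp h : Rel Γ 1 0).eq_zero
  have h1D : (1 : ZMod p) ∈ D := hmemD.mpr (hsd1 ▸ h1s)
  have hUT : ∀ {u}, r u ≠ 0 → (u ∈ T ↔ r u ∈ D) := fun {u} hu => by
    have h2 := hmul ((hunit u).mpr hu) h1s
    rw [mul_one, mul_comm u, hsd] at h2
    rw [hmemT, hmemD]
    exact ⟨fun h => h.trans h2, fun h => h.trans h2.symm⟩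
  by_contra hcon
  -- some residue class is missing
  obtain ⟨e, he0, heD⟩ : ∃ e, e ≠ 0 ∧ e ∉ D := by
    by_contra hall
    push_neg at hall
    have key : ∀ {z}, z ≠ 0 → Rel Γ z 1 := fun {z} hz => by
      obtain ⟨w, hw0, hpw, hzw⟩ := exists_rel_torsion hT hP hp hpn hz
      obtain ⟨d, rfl⟩ := htor' hpw
      exact hzw.trans (hmemD.mp (hall d fun h => hw0 (h ▸ hsd0))).symm
    exact hcon ((key hx).trans (key hy).symm)
  -- the intersection numbers
  let F : ZMod (p ^ (m + 1)) → Finset (ZMod (p ^ (m + 1))) := fun h => T.filter fun t => t - h ∈ T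
  have hF : ∀ {h h'}, Rel Γ h h' → (F h).card ≤ (F h').card := by
    rintro h _ ⟨k, hk, hk0, rfl⟩
    refine Finset.card_le_card_of_injOn k (fun t ht => ?_) k.injective.injOn
    simp only [F, Finset.coe_filter, Set.mem_ofPred_eq, hmemT] at ht ⊢
    obtain ⟨j, hj, hj0, hjx⟩ := exists_shift hT hk h
    have h1 := hjx (t - h)
    rw [sub_add_cancel] at h1
    exact ⟨ht.1.trans ⟨k, hk, hk0, rfl⟩, h1 ▸ ht.2.trans ⟨j, hj, hj0, rfl⟩⟩
  set U := T.filter fun t => r t ≠ 0 with hUdef
  set Z := T.filter fun t => r t = 0 with hZdef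
  set Zr := Z.filter fun t => p • t ≠ 0 with hZrdef
  set E := D.filter fun d => d - 1 ∈ D with hEdef
  set q := (Finset.univ.filter fun z : ZMod (p ^ (m + 1)) => r z = 0).card with hq
  have hfib : ∀ d, (Finset.univ.filter fun z : ZMod (p ^ (m + 1)) => r z = d).card = q := fun d => by
    refine Finset.card_nbij' (fun z => z - L d) (fun z => z + L d) ?_ ?_ ?_ ?_ <;> intro z hz
    · simp only [Finset.coe_filter, Finset.mem_univ, true_and, Set.mem_ofPred_eq] at hz ⊢
      rw [map_sub, hrL, hz, sub_self]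
    · simp only [Finset.coe_filter, Finset.mem_univ, true_and, Set.mem_ofPred_eq] at hz ⊢
      rw [map_add, hrL, hz, zero_add]
    · exact sub_add_cancel z _
    · exact add_sub_cancel_right z _
  have hfibs : ∀ B : Finset (ZMod p),
      (Finset.univ.filter fun z : ZMod (p ^ (m + 1)) => r z ∈ B).card = B.card * q := fun B => by
    rw [Finset.card_eq_sum_card_fiberwise (f := r) (t := B) (fun z hz => by simpa using hz),
      ← smul_eq_mul, ← Finset.sum_const]
    refine Finset.sum_congr rfl fun d hd => ?_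
    rw [Finset.filter_filter, ← hfib d]
    congr 1
    ext z
    simp only [Finset.mem_filter, Finset.mem_univ, true_and]
    exact ⟨fun h => h.2, fun h => ⟨h ▸ hd, h⟩⟩
  have hU : U.card = D.card * q := by
    rw [← hfibs]
    congr 1
    ext z
    simp only [hUdef, Finset.mem_filter, Finset.mem_univ, true_and]
    exact ⟨fun h => (hUT h.2).mp h.1, fun h =>
      have h2 : r z ≠ 0 := fun h0 => h0D (h0 ▸ h)
      ⟨(hUT h2).mpr h, h2⟩⟩
  have hrsd : ∀ d, r (sd d) = 0 := fun d => by simp [sd, hrπ]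
  have hpsd : ∀ d, p • sd d = 0 := fun d => by
    show p • (π * a * L d) = 0
    rw [mul_assoc, ← smul_mul_assoc, hpπ, zero_mul]
  have hZ : Z.card = Zr.card + D.card := by
    rw [← Finset.card_image_of_injective D hsd_inj, hZrdef,
      ← Finset.card_filter_add_card_filter_not (s := Z) (fun t => p • t ≠ 0)]
    congr 2
    ext z
    simp only [hZdef, Finset.mem_filter, Finset.mem_image, not_not, hmemT, hmemD]
    constructor
    · rintro ⟨⟨h1, -⟩, h3⟩
      obtain ⟨d, rfl⟩ := htor' h3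
      exact ⟨d, h1, rfl⟩
    · rintro ⟨d, hd, rfl⟩
      exact ⟨⟨hd, hrsd d⟩, hpsd d⟩
  have hrsub : ∀ d {z}, r (z - sd d) = r z := fun d {z} => by rw [map_sub, hrsd, sub_zero]
  have hlow : U.card + Zr.card + E.card ≤ (F (sd 1)).card := by
    rw [← Finset.card_image_of_injective E hsd_inj, ← Finset.card_union_of_disjoint,
      ← Finset.card_union_of_disjoint]
    · refine Finset.card_le_card fun z hz => ?_
      simp only [F, Finset.mem_filter]
      simp only [Finset.mem_union, Finset.mem_image] at hz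
      rcases hz with (hz | hz) | ⟨d, hd, rfl⟩
      · simp only [hUdef, Finset.mem_filter] at hz
        have h2 : r (z - sd 1) ≠ 0 := by rw [hrsub]; exact hz.2
        exact ⟨hz.1, (hUT h2).mpr (by rw [hrsub]; exact (hUT hz.2).mp hz.1)⟩
      · simp only [hZrdef, hZdef, Finset.mem_filter] at hz
        refine ⟨hz.1.1, hmemT.mpr ((hmemT.mp hz.1.1).trans ?_)⟩
        rw [sub_eq_add_neg]
        exact coset_rel hT hP hp hpn hz.2 (by rw [smul_neg, hpsd, neg_zero])
      · simp only [hEdef, Finset.mem_filter] at hd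
        exact ⟨hmemT.mpr (hmemD.mp hd.1), by rw [hsd_sub]; exact hmemT.mpr (hmemD.mp hd.2)⟩
    · rw [Finset.disjoint_left]
      intro z hz hz'
      obtain ⟨d, -, rfl⟩ := Finset.mem_image.mp hz'
      rcases Finset.mem_union.mp hz with h | h <;>
        simp only [hUdef, hZrdef, Finset.mem_filter] at h
      · exact h.2 (hrsd d)
      · exact h.2 (hpsd d)
    · rw [Finset.disjoint_left]
      intro z hz hz'
      simp [hUdef] at hz
      simp [hZrdef, hZdef] at hz'
      exact hz.2 hz'.1.2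
  have hup : (F 1).card ≤ E.card * q + (Z.card + Z.card) := by
    have hsub : F 1 ⊆ (Finset.univ.filter fun z => r z ∈ E) ∪ (Z ∪ Z.image (· + 1)) := by
      intro z hz
      simp only [F, Finset.mem_filter] at hz
      simp only [Finset.mem_union, Finset.mem_filter, Finset.mem_univ, true_and, Finset.mem_image, hEdef, hZdef]
      by_cases h1 : r z = 0
      · exact Or.inr (Or.inl ⟨hz.1, h1⟩)
      by_cases h2 : r (z - 1) = 0
      · exact Or.inr (Or.inr ⟨z - 1, ⟨hz.2, h2⟩, sub_add_cancel z 1⟩)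
      refine Or.inl ⟨(hUT h1).mp hz.1, ?_⟩
      have := (hUT h2).mp hz.2
      rwa [map_sub, map_one] at this
    refine (Finset.card_le_card hsub).trans ?_
    refine (Finset.card_union_le _ _).trans ?_
    rw [hfibs]
    refine Nat.add_le_add_left ?_ _
    exact (Finset.card_union_le _ _).trans (Nat.add_le_add_left Finset.card_image_le _)
  have hZlt : Z.card + 2 ≤ q := by
    have hne : sd e ≠ 0 := fun h => he0 (hsd_inj (h.trans hsd0.symm))
    have hsub : insert 0 (insert (sd e) Z) ⊆ Finset.univ.filter fun z => r z = 0 := by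
      intro z hz
      simp only [Finset.mem_insert, hZdef, Finset.mem_filter] at hz
      simp only [Finset.mem_filter, Finset.mem_univ, true_and]
      rcases hz with rfl | rfl | hz
      · exact map_zero r
      · exact hrsd e
      · exact hz.2
    have := Finset.card_le_card hsub
    rw [Finset.card_insert_of_notMem, Finset.card_insert_of_notMem] at this
    · exact this
    · simp [hZdef, hmemT, ← hmemD, heD]
    · simp only [Finset.mem_insert, hZdef, Finset.mem_filter, hmemT]
      rintro (h | ⟨h, -⟩)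
      · exact hne h.symm
      · exact one_ne_zero h.eq_zero
  have hEc : E.card ≤ D.card := Finset.card_filter_le _ _
  have hFs := hF (hsd1 ▸ h1s.symm : Rel Γ (sd 1) 1)
  have hDE : E.card = D.card := by
    by_contra hne
    have hlt : E.card + 1 ≤ D.card := by omega
    obtain ⟨d, hd⟩ := Nat.exists_eq_add_of_le hlt
    obtain ⟨f, hf⟩ := Nat.exists_eq_add_of_le hZlt
    rw [hd] at hU hZ
    rw [hf] at hU hup
    nlinarith [Nat.zero_le (d * Z.card), Nat.zero_le (d * f)]
  have := Finset.eq_of_subset_of_card_le (Finset.filter_subset _ D) hDE.ge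
  rw [← this, Finset.mem_filter, sub_self] at h1D
  exact h0D h1D.2

/-- Schur's theorem. -/
theorem rel_of_composite {n : ℕ} [NeZero n] (h1 : 2 ≤ n) (hc : ¬ n.Prime)
    {Γ : Subgroup (Perm (ZMod n))} (hT : HasTrans Γ) (hP : Prim Γ) {x y : ZMod n} (hx : x ≠ 0)
    (hy : y ≠ 0) : Rel Γ x y := by
  by_cases hpp : IsPrimePow n
  · obtain ⟨p, k, hp, hk, rfl⟩ := (isPrimePow_nat_iff n).mp hpp
    obtain ⟨m, rfl⟩ := Nat.exists_eq_add_of_le' hk
    have hm : 1 ≤ m := by
      rcases Nat.eq_zero_or_pos m with rfl | h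
      · exact absurd (by simpa using hp) hc
      · exact h
    exact rel_of_prime_pow hp hm hT hP hx hy
  · obtain ⟨p, hp, hpn⟩ := Nat.exists_prime_and_dvd (show n ≠ 1 by omega)
    obtain ⟨q, hq, hqn, hqp⟩ : ∃ q, q.Prime ∧ q ∣ n ∧ q ≠ p := by
      by_contra hcon
      push_neg at hcon
      refine hpp ((isPrimePow_nat_iff n).mpr ⟨p, n.primeFactorsList.length, hp, ?_, ?_⟩)
      · exact List.length_pos_of_mem ((Nat.mem_primeFactorsList (by omega)).mpr ⟨hp, hpn⟩)
      · exact (Nat.eq_prime_pow_of_unique_prime_dvd (by omega) fun {d} hd hdn => hcon d hd hdn).symm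
    exact rel_of_two_primes hT hP hp hq hqp.symm (by rwa [ZMod.card]) (by rwa [ZMod.card]) hx hy

end PrimePower

section Action

variable {G Ω : Type*} [Group G] [MulAction G Ω]

/-- Transport of an action along a bijection. -/
def pullPerm {X : Type*} (e : X ≃ Ω) : G →* Perm X :=
  (e.symm.permCongrHom.toMonoidHom).comp (MulAction.toPermHom G Ω)

@[simp] theorem pullPerm_apply {X : Type*} (e : X ≃ Ω) (g : G) (x : X) :
    pullPerm e g x = e.symm (g • e x) := rfl

theorem exists_label [Finite Ω] {n : ℕ} [NeZero n] (hn : Nat.card Ω = n) (c : G) (a : Ω)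
    (hper : MulAction.period c a = n) :
    ∃ e : ZMod n ≃ Ω, ∀ x h : ZMod n, e (x + h) = c ^ h.val • e x := by
  have hmod : ∀ i : ℕ, c ^ i • a = c ^ (i % n) • a := fun i => by
    rw [← hper]; exact (MulAction.pow_mod_period_smul i).symm
  have hinj : Function.Injective fun x : ZMod n => c ^ x.val • a := by
    intro x y hxy
    dsimp only at hxy
    wlog hle : x.val ≤ y.val generalizing x y
    · exact (this hxy.symm (by omega)).symm
    rw [← Nat.sub_add_cancel hle, add_comm, pow_add, mul_smul] at hxy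
    have h2 := MulAction.pow_smul_eq_iff_period_dvd.mp (smul_left_cancel _ hxy).symm
    rw [hper] at h2
    have h3 : y.val - x.val = 0 := Nat.eq_zero_of_dvd_of_lt h2 (by have := y.val_lt; omega)
    exact ZMod.val_injective n (by omega)
  have hbij : Function.Bijective fun x : ZMod n => c ^ x.val • a := by
    classical
    haveI := Fintype.ofFinite Ω
    exact (Fintype.bijective_iff_injective_and_card _).mpr
      ⟨hinj, by rw [ZMod.card, ← hn, Nat.card_eq_fintype_card]⟩
  refine ⟨Equiv.ofBijective _ hbij, fun x h => ?_⟩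
  show c ^ (x + h).val • a = c ^ h.val • c ^ x.val • a
  rw [← mul_smul, ← pow_add, ZMod.val_add, ← hmod, add_comm]

variable {n : ℕ} [NeZero n] (e : ZMod n ≃ Ω) (c : G)
  (he : ∀ x h : ZMod n, e (x + h) = c ^ h.val • e x)

include he in
theorem hasTrans_pull : HasTrans (pullPerm (G := G) e).range :=
  fun h => ⟨c ^ h.val, Equiv.ext fun x => by rw [pullPerm_apply, ← he, e.symm_apply_apply]; rfl⟩

include he in
theorem prim_pull (hprim : MulAction.IsPreprimitive G Ω) : Prim (pullPerm (G := G) e).range := by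
  intro H hH
  have hcong := fun g => invariant_congruence (hasTrans_pull e c he) hH (k := pullPerm e g) ⟨g, rfl⟩
  have hB : MulAction.IsBlock G (e '' (H : Set (ZMod n))) := by
    rw [MulAction.isBlock_iff_smul_eq_or_disjoint]
    intro g
    by_cases hd : Disjoint (g • e '' (H : Set (ZMod n))) (e '' (H : Set (ZMod n)))
    · exact Or.inr hd
    · left
      rw [Set.not_disjoint_iff] at hd
      obtain ⟨_, ⟨_, ⟨x, hx, rfl⟩, hgx⟩, y, hy, rfl⟩ := hd
      have hxy : pullPerm e g x = y := by rw [pullPerm_apply]; exact e.symm_apply_eq.mpr hgx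
      ext ω
      obtain ⟨z, rfl⟩ := e.surjective ω
      obtain ⟨w, rfl⟩ := (pullPerm e g).surjective z
      simp only [pullPerm_apply, e.apply_symm_apply, Set.smul_mem_smul_set_iff]
      have key : pullPerm e g w ∈ H ↔ w ∈ H := by
        rw [← H.add_mem_cancel_right (H.neg_mem hy), ← sub_eq_add_neg, ← hxy, hcong g w x,
          sub_eq_add_neg, H.add_mem_cancel_right (H.neg_mem hx)]
      constructor
      · rintro ⟨w', hw', hww⟩
        rw [e.injective hww] at hw'
        exact ⟨e.symm (g • e w), key.mpr hw', e.apply_symm_apply _⟩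
      · rintro ⟨w', hw', hww⟩
        refine ⟨w, key.mp ?_, rfl⟩
        rwa [show pullPerm e g w = w' by rw [pullPerm_apply, ← hww, e.symm_apply_apply]]
  rcases hprim.isTrivialBlock_of_isBlock hB with h | h
  · left
    rw [eq_bot_iff]
    intro x hx
    exact AddSubgroup.mem_bot.mpr (e.injective (h ⟨x, hx, rfl⟩ ⟨0, zero_mem _, rfl⟩))
  · right
    rw [eq_top_iff]
    intro x _
    obtain ⟨y, hy, hyx⟩ := h.symm ▸ Set.mem_univ (e x)
    exact e.injective hyx ▸ hy

include he in
theorem two_trans_of_rel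
    (hrel : ∀ x y : ZMod n, x ≠ 0 → y ≠ 0 → Rel (pullPerm (G := G) e).range x y) :
    MulAction.IsMultiplyPretransitive G Ω 2 := by
  rw [MulAction.is_two_pretransitive_iff]
  intro a b u v hab huv
  obtain ⟨a, rfl⟩ := e.surjective a
  obtain ⟨b, rfl⟩ := e.surjective b
  obtain ⟨u, rfl⟩ := e.surjective u
  obtain ⟨v, rfl⟩ := e.surjective v
  obtain ⟨_, ⟨g, rfl⟩, hg0, hgx⟩ := hrel (b - a) (v - u)
    (sub_ne_zero.mpr fun h => hab (h ▸ rfl)) (sub_ne_zero.mpr fun h => huv (h ▸ rfl))
  rw [pullPerm_apply, e.symm_apply_eq] at hg0 hgx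
  refine ⟨c ^ u.val * g * c ^ (-a).val, ?_, ?_⟩
  · rw [mul_smul, mul_smul, ← he a, add_neg_cancel, hg0, ← he, zero_add]
  · rw [mul_smul, mul_smul, ← he b, ← sub_eq_add_neg, hgx, ← he, sub_add_cancel]

end Action

end CfsgLib.SRing54

namespace CfsgLib.SRing54

variable {G Ω : Type*} [Group G] [MulAction G Ω]

/-- Schur's theorem for actions. -/
theorem two_trans_of_primitive [Finite Ω] {n : ℕ} [NeZero n] (hn : Nat.card Ω = n) (h1 : 2 ≤ n)
    (hc : ¬ n.Prime) (c : G) (a : Ω) (hper : MulAction.period c a = n)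
    (hprim : MulAction.IsPreprimitive G Ω) : MulAction.IsMultiplyPretransitive G Ω 2 := by
  obtain ⟨e, he⟩ := exists_label hn c a hper
  exact two_trans_of_rel e c he fun x y hx hy =>
    rel_of_composite h1 hc (hasTrans_pull e c he) (prim_pull e c he hprim) hx hy

end CfsgLib.SRing54
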