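import Mathlib

/-!
Transitive permutation groups of a finite abelian group containing all translations: the orbits
of the stabiliser of zero span a Schur ring.
-/

set_option autoImplicit false

namespace CfsgLib.SRing54

open Equiv

variable {A : Type*} [AddCommGroup A] {Γ : Subgroup (Perm A)}

/-- The group contains all translations. -/
def HasTrans (Γ : Subgroup (Perm A)) : Prop := ∀ h : A, Equiv.addRight h ∈ Γ

/-- The same orbit of the stabiliser of zero. -/
def Rel (Γ : Subgroup (Perm A)) (x y : A) : Prop := ∃ k ∈ Γ, k 0 = 0 ∧ k x = y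

/-- A function constant on orbits of the stabiliser of zero. -/
def Inv {R : Type*} (Γ : Subgroup (Perm A)) (φ : A → R) : Prop :=
  ∀ k ∈ Γ, k 0 = 0 → ∀ x, φ (k x) = φ x

/-- A set which is a union of orbits. -/
def InvSet (Γ : Subgroup (Perm A)) (S : Set A) : Prop :=
  ∀ k ∈ Γ, k 0 = 0 → ∀ x ∈ S, k x ∈ S

/-- There is no proper non-trivial orbit-invariant subgroup. -/
def Prim (Γ : Subgroup (Perm A)) : Prop :=
  ∀ H : AddSubgroup A, InvSet Γ (H : Set A) → H = ⊥ ∨ H = ⊤

theorem Rel.refl (x : A) : Rel Γ x x := ⟨1, Γ.one_mem, rfl, rfl⟩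

theorem Rel.symm {x y : A} (h : Rel Γ x y) : Rel Γ y x := by
  obtain ⟨k, hk, h0, rfl⟩ := h
  exact ⟨k⁻¹, Γ.inv_mem hk, k.injective (by rw [h0]; exact k.apply_symm_apply 0),
    Equiv.symm_apply_apply k x⟩

theorem Rel.trans {x y z : A} (h : Rel Γ x y) (h' : Rel Γ y z) : Rel Γ x z := by
  obtain ⟨k, hk, h0, rfl⟩ := h
  obtain ⟨k', hk', h0', rfl⟩ := h'
  exact ⟨k' * k, Γ.mul_mem hk' hk, by rw [Perm.mul_apply, h0, h0'], rfl⟩

theorem Rel.zero_left {x : A} (h : Rel Γ 0 x) : x = 0 := by
  obtain ⟨k, -, h0, rfl⟩ := h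
  exact h0

theorem Rel.eq_zero {x : A} (h : Rel Γ x 0) : x = 0 := h.symm.zero_left

theorem inv_rel_indicator (x : A) : InvSet Γ {y | Rel Γ x y} :=
  fun k hk h0 y hy => hy.trans ⟨k, hk, h0, rfl⟩

theorem InvSet.mem_iff {S : Set A} (hS : InvSet Γ S) {k : Perm A} (hk : k ∈ Γ) (h0 : k 0 = 0) (x : A) :
    k x ∈ S ↔ x ∈ S := by
  refine ⟨fun h => ?_, hS k hk h0 x⟩
  have := hS k⁻¹ (Γ.inv_mem hk) (k.injective (by rw [h0]; exact k.apply_symm_apply 0)) _ h
  exact (Equiv.symm_apply_apply k x) ▸ this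

variable (hT : HasTrans Γ)

include hT in
/-- Moving a stabiliser element along a translation. -/
theorem exists_shift {k : Perm A} (hk : k ∈ Γ) (z : A) :
    ∃ j ∈ Γ, j 0 = 0 ∧ ∀ x, j x = k (x + z) - k z :=
  ⟨Equiv.addRight (-(k z)) * k * Equiv.addRight z,
    Γ.mul_mem (Γ.mul_mem (hT _) hk) (hT z), by simp, fun x => by simp [sub_eq_add_neg]⟩

include hT in
theorem neg_invSet {S : Set A} (hS : InvSet Γ S) : InvSet Γ {x | -x ∈ S} := by
  intro k hk h0 x hx
  obtain ⟨j, hj, hj0, hjx⟩ := exists_shift hT hk x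
  have := hS j hj hj0 _ hx
  rwa [hjx, neg_add_cancel, h0, zero_sub] at this

include hT in
theorem closure_invSet {S : Set A} (hS : InvSet Γ S) :
    InvSet Γ (AddSubgroup.closure S : Set A) := by
  intro k hk h0 x hx
  revert k
  induction hx using AddSubgroup.closure_induction_left with
  | zero => intro k _ h0; rw [h0]; exact zero_mem _
  | add_left x hx y _ ih =>
    intro k hk h0
    obtain ⟨j, hj, hj0, hjx⟩ := exists_shift hT hk y
    have h1 := hjx x
    have h2 : k (x + y) = j x + k y := by rw [h1, sub_add_cancel]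
    rw [h2]
    exact add_mem (AddSubgroup.subset_closure (hS j hj hj0 x hx)) (ih k hk h0)
  | neg_add_cancel x hx y _ ih =>
    intro k hk h0
    obtain ⟨j, hj, hj0, hjx⟩ := exists_shift hT hk y
    have h1 := hjx (-x)
    have h2 : k (-x + y) = j (-x) + k y := by rw [h1, sub_add_cancel]
    rw [h2]
    refine add_mem ?_ (ih k hk h0)
    rw [← neg_mem_iff]
    have h3 := neg_invSet hT hS j hj hj0 (-x) (by simpa using hx)
    exact AddSubgroup.subset_closure h3

include hT in
/-- An invariant subgroup gives an invariant congruence. -/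
theorem invariant_congruence {H : AddSubgroup A} (hH : InvSet Γ (H : Set A)) {k : Perm A} (hk : k ∈ Γ)
    (x y : A) : k x - k y ∈ H ↔ x - y ∈ H := by
  obtain ⟨j, hj, hj0, hjx⟩ := exists_shift hT hk y
  have h1 := hjx (x - y)
  rw [sub_add_cancel] at h1
  rw [← h1]
  exact hH.mem_iff hj hj0 (x - y)

variable [Fintype A] [DecidableEq A]

include hT in
theorem conv_inv {R : Type*} [CommRing R] {φ ψ : A → R} (hφ : Inv Γ φ) (hψ : Inv Γ ψ) :
    Inv Γ (fun x => ∑ y, φ y * ψ (x - y)) := by
  intro k hk h0 x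
  show ∑ y, φ y * ψ (k x - y) = _
  rw [← Equiv.sum_comp k]
  refine Finset.sum_congr rfl fun z _ => ?_
  obtain ⟨j, hj, hj0, hjx⟩ := exists_shift hT hk z
  rw [hφ k hk h0 z]
  have h1 := hjx (x - z)
  rw [sub_add_cancel] at h1
  rw [← h1, hψ j hj hj0]

theorem mul_apply_sum {R : Type*} [CommRing R] (Φ Ψ : AddMonoidAlgebra R A) (x : A) :
    (Φ * Ψ).coeff x = ∑ y, Φ.coeff y * Ψ.coeff (x - y) := by
  classical
  rw [AddMonoidAlgebra.coeff_mul_apply_left, Finsupp.sum_fintype _ _ fun _ => zero_mul _]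
  exact Finset.sum_congr rfl fun y _ => by rw [neg_add_eq_sub]

include hT in
theorem pow_inv {R : Type*} [CommRing R] {Φ : AddMonoidAlgebra R A} (h : Inv Γ fun x => Φ.coeff x) :
    ∀ m : ℕ, Inv Γ fun x => (Φ ^ m).coeff x := by
  intro m
  induction m with
  | zero =>
    intro k hk h0 x
    simp only [pow_zero, AddMonoidAlgebra.one_def, AddMonoidAlgebra.coeff_single]
    by_cases hx : x = 0
    · rw [hx, h0]
    · rw [Finsupp.single_eq_of_ne hx, Finsupp.single_eq_of_ne fun hkx => hx (k.injective (hkx.trans h0.symm))]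
  | succ m ih =>
    have := conv_inv hT ih h
    intro k hk h0 x
    simp only [pow_succ, mul_apply_sum]
    exact this k hk h0 x

include hT in
/-- The multiplier congruence. -/
theorem roots_inv (p : ℕ) [Fact p.Prime] {S : Set A} [DecidablePred (· ∈ S)] (hS : InvSet Γ S) :
    Inv Γ fun x => ((Finset.univ.filter fun y => y ∈ S ∧ p • y = x).card : ZMod p) := by
  classical
  haveI : CharP (AddMonoidAlgebra (ZMod p) A) p :=
    charP_of_injective_ringHom (f := AddMonoidAlgebra.singleZeroRingHom)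
      (fun a b hab => by simpa [AddMonoidAlgebra.ext_iff, Finsupp.single_eq_single_iff] using congrArg (fun Φ : AddMonoidAlgebra (ZMod p) A => Φ.coeff 0) hab) p
  set Φ : AddMonoidAlgebra (ZMod p) A :=
    ∑ y ∈ Finset.univ.filter (· ∈ S), AddMonoidAlgebra.single y (1 : ZMod p) with hΦ
  have hΦc : ∀ x, Φ.coeff x = if x ∈ S then 1 else 0 := fun x => by
    simp [hΦ, AddMonoidAlgebra.coeff_sum, Finsupp.single_apply, Finset.sum_ite_eq']
  have hI : Inv Γ fun x => Φ.coeff x := fun k hk h0 x => by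
    simp only [hΦc, hS.mem_iff hk h0 x]
  have hp := pow_inv hT hI p
  intro k hk h0 x
  have key : ∀ x, (Φ ^ p).coeff x =
      ((Finset.univ.filter fun y => y ∈ S ∧ p • y = x).card : ZMod p) := fun x => by
    rw [hΦ, sum_pow_char p]
    simp [AddMonoidAlgebra.single_pow, AddMonoidAlgebra.coeff_sum, Finsupp.single_apply,
      Finset.sum_ite, Finset.filter_filter]
  simp only [← key]
  exact hp k hk h0 x

include hT in
theorem image_nsmul_invSet_prime {p : ℕ} [Fact p.Prime] (hp : (Nat.card A).Coprime p) {S : Set A}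
    (hS : InvSet Γ S) : InvSet Γ ((p • ·) '' S) := by
  classical
  intro k hk h0 x hx
  have hinj : Function.Injective (p • · : A → A) := (nsmulCoprime hp).injective
  obtain ⟨y, hy, rfl⟩ := hx
  have h1 := roots_inv hT p hS k hk h0 (p • y)
  have h2 : (Finset.univ.filter fun z => z ∈ S ∧ p • z = p • y) = {y} := by
    ext z
    simp only [Finset.mem_filter, Finset.mem_univ, true_and, Finset.mem_singleton]
    exact ⟨fun h => hinj h.2, fun h => by subst h; exact ⟨hy, rfl⟩⟩
  dsimp only at h1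
  rw [h2, Finset.card_singleton, Nat.cast_one] at h1
  obtain ⟨z, hz⟩ := Finset.card_pos.mp (Nat.pos_of_ne_zero fun h => one_ne_zero (h1.symm.trans (by rw [h, Nat.cast_zero])))
  simp only [Finset.mem_filter, Finset.mem_univ, true_and] at hz
  exact ⟨z, hz.1, hz.2⟩

include hT in
theorem rel_nsmul_prime {p : ℕ} [Fact p.Prime] (hp : (Nat.card A).Coprime p) {x y : A} (h : Rel Γ x y) :
    Rel Γ (p • x) (p • y) := by
  classical
  have hinj : Function.Injective (p • · : A → A) := (nsmulCoprime hp).injective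
  have himg : ∀ (i : ℕ) (T : Set A), InvSet Γ T → InvSet Γ ((fun z => p ^ i • z) '' T) := by
    intro i T hT'
    induction i with
    | zero => simpa using hT'
    | succ i ihi =>
      have := image_nsmul_invSet_prime hT hp ihi
      rwa [Set.image_image, show (fun z : A => p • (p ^ i • z)) = fun z => p ^ (i + 1) • z from
        funext fun z => by rw [smul_smul, ← pow_succ']] at this
  have hj : ∀ z : A, p ^ Nat.totient (Nat.card A) • z = z := fun z => by
    have h3 := Nat.ModEq.pow_totient hp.symm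
    rw [mod_natCard_nsmul (a := z) (n := p ^ Nat.totient (Nat.card A)) |>.symm, h3,
      mod_natCard_nsmul, one_smul]
  have ht : 0 < Nat.totient (Nat.card A) := Nat.totient_pos.mpr Nat.card_pos
  by_contra hne
  -- the image of an orbit would be strictly larger than an orbit
  have hsub : {z | Rel Γ (p • x) z} ⊂ (p • ·) '' {z | Rel Γ x z} := by
    refine ⟨?_, fun hle => hne (hle ⟨y, h, rfl⟩)⟩
    rintro z ⟨k, hk, h0, rfl⟩
    exact image_nsmul_invSet_prime hT hp (inv_rel_indicator x) k hk h0 _ ⟨x, Rel.refl _, rfl⟩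
  have hback : {z | Rel Γ x z} ⊆
      (fun z => p ^ (Nat.totient (Nat.card A) - 1) • z) '' {z | Rel Γ (p • x) z} := by
    rintro z ⟨k, hk, h0, rfl⟩
    refine himg _ _ (inv_rel_indicator _) k hk h0 _ ⟨p • x, Rel.refl _, ?_⟩
    show p ^ (Nat.totient (Nat.card A) - 1) • (p • x) = x
    rw [smul_smul, ← pow_succ, Nat.sub_add_cancel ht, hj]
  have h4 := Set.ncard_le_ncard hback (Set.toFinite _)
  have h5 := Set.ncard_lt_ncard hsub (Set.toFinite _)
  have h6 := Set.ncard_image_le (f := fun z : A => p ^ (Nat.totient (Nat.card A) - 1) • z)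
    (Set.toFinite {z | Rel Γ (p • x) z})
  rw [Set.ncard_image_of_injective _ hinj] at h5
  omega

include hT in
/-- The multiplier theorem. -/
theorem rel_nsmul {m : ℕ} (hm : (Nat.card A).Coprime m) {x y : A} (h : Rel Γ x y) :
    Rel Γ (m • x) (m • y) := by
  induction m using induction_on_primes with
  | zero => simp [Rel.refl]
  | one => simpa using h
  | prime_mul p a hp ih =>
    haveI := Fact.mk hp
    rw [Nat.coprime_mul_iff_right] at hm
    rw [mul_smul, mul_smul]
    exact rel_nsmul_prime hT hm.1 (ih hm.2)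

end CfsgLib.SRing54
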